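set_option autoImplicit false
namespace Cfsg.Agent.Lib.Helper6.TCD.J3HU
noncomputable def WI (i : Nat) : Nat := Nat.land (Nat.shiftRight 0x414000b1e048e824701236091a048c82460122e0916048a8245012260912048882440121e090e0486824301216090a048482420120e090604828241012060902048082400103c081d040e0206c10340819040c0205c102c0815040a0204c1024081104080203c101c080d04060202c1014080904040201c100c080504020200c1004080104000246c0e340719038c01c5c0e2c0715038a01c4c0e240711038801c3c0e1c070d038601c2c0e140709038401c1c0e0c0705038201c0c0e04070103800186c0c340619030c0185c0c2c0615030a0184c0c24061103080183c0c1c060d03060182c0c14060903040181c0c0c060503020180c0c040601030001c040a0004010200014000400020000 (Nat.mul 17 (Nat.land i 255))) 131071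
end Cfsg.Agent.Lib.Helper6.TCD.J3HU
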