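import Cfsg.Agent.Lib.Helper6.TCD.J3HU.SH
import Cfsg.Agent.Lib.Helper6.TCD.J3HU.SC
import Cfsg.Agent.Lib.Helper6.TCD.J3HU.NH
import Cfsg.Agent.Lib.Helper6.TCD.J3HU.NC
import Cfsg.Agent.Lib.Helper6.TCD.J3HU.WD
import Cfsg.Agent.Lib.Helper6.TCD.J3HU.WI
set_option autoImplicit false
namespace Cfsg.Agent.Lib.Helper6.TCD.J3HU
def n : Nat := 8451
def ncol : Nat := 3
def nrw : Nat := 127
def nw : Nat := 127
def tmax : Nat := 25160
def INV : Nat := 288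
def N : Nat := 8160
end Cfsg.Agent.Lib.Helper6.TCD.J3HU
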